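import Mathlib
import Cfsg.Prelude
import Cfsg.Agent.Classical.SL
import Cfsg.Agent.Classical.Misc.SLTwoTori
import Cfsg.Agent.Classical.Misc.SmallPSL
import Cfsg.Agent.SuzukiTwo.Unitary
import Cfsg.Agent.Suz.Lie
import Cfsg.Agent.Classical.Unitary.Matrix

/-!
Sections of `GL(5,2)` of rank one Lie type in characteristic two.
-/

set_option autoImplicit false
set_option linter.style.haveILetI false

namespace Cfsg.Lib.GLFiveTwo

open Subgroup Matrix

universe u v

theorem card_GL5 : Nat.card (GL (Fin 5) (ZMod 2)) = 2 ^ 10 * 9765 := by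
  rw [Matrix.card_GL_field, ZMod.card]
  decide

/-- A first element of order three. -/
def A₁ : Matrix (Fin 5) (Fin 5) (ZMod 2) :=
  !![0, 1, 0, 0, 0; 1, 1, 0, 0, 0; 0, 0, 1, 0, 0; 0, 0, 0, 1, 0; 0, 0, 0, 0, 1]

/-- A second element of order three. -/
def B₁ : Matrix (Fin 5) (Fin 5) (ZMod 2) :=
  !![1, 0, 0, 0, 0; 0, 1, 0, 0, 0; 0, 0, 0, 1, 0; 0, 0, 1, 1, 0; 0, 0, 0, 0, 1]

theorem A₁_facts : A₁ * (A₁ * A₁) = 1 ∧ (A₁ * A₁) * A₁ = 1 ∧ B₁ * (B₁ * B₁) = 1 ∧ (B₁ * B₁) * B₁ = 1 ∧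
    A₁ * B₁ = B₁ * A₁ ∧ A₁ ≠ 1 ∧ B₁ ≠ 1 ∧ B₁ ≠ A₁ ∧ A₁ * A₁ ≠ 1 ∧ B₁ ≠ A₁ * A₁ := by
  decide +kernel

/-- `GL(5,2)` has no element of order nine. -/
theorem pow_three_eq_one {g : GL (Fin 5) (ZMod 2)} (hg : g ^ 9 = 1) : g ^ 3 = 1 := by
  classical
  haveI : Fact (Nat.Prime 3) := ⟨Nat.prime_three⟩
  obtain ⟨a1, a2, b1, b2, hab, hA, hB, hBA, hA2, hBA2⟩ := A₁_facts
  by_contra h3
  let a : GL (Fin 5) (ZMod 2) := ⟨A₁, A₁ * A₁, a1, a2⟩
  let b : GL (Fin 5) (ZMod 2) := ⟨B₁, B₁ * B₁, b1, b2⟩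
  have hcomm : Commute a b := Units.ext hab
  have ha3 : a ^ 3 = 1 := Units.ext (by show _ = (1 : Matrix (Fin 5) (Fin 5) (ZMod 2)); rw [Units.val_pow_eq_pow_val, pow_succ, pow_two]; exact a2)
  have hb3 : b ^ 3 = 1 := Units.ext (by show _ = (1 : Matrix (Fin 5) (Fin 5) (ZMod 2)); rw [Units.val_pow_eq_pow_val, pow_succ, pow_two]; exact b2)
  have hg9 : orderOf g = 3 ^ 2 := orderOf_eq_prime_pow (by rwa [pow_one]) hg
  have hfac : (Nat.card (GL (Fin 5) (ZMod 2))).factorization 3 = 2 := by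
    rw [card_GL5, show 2 ^ 10 * 9765 = 3 ^ 2 * 1111040 from rfl, Nat.factorization_mul (by norm_num) (by norm_num),
      Nat.prime_three.factorization_pow, Finsupp.add_apply, Finsupp.single_eq_same,
      Nat.factorization_eq_zero_of_not_dvd (by norm_num : ¬ 3 ∣ 1111040)]
  have hzp : IsPGroup 3 (zpowers a ⊔ zpowers b : Subgroup (GL (Fin 5) (ZMod 2))) := by
    have key : ∀ x : GL (Fin 5) (ZMod 2), x ^ 3 = 1 → IsPGroup 3 (zpowers x) := fun x hx y => ⟨1, Subtype.ext (by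
      obtain ⟨j, hj⟩ := mem_zpowers_iff.1 y.2
      rw [pow_one, SubmonoidClass.coe_pow, ← hj, ← zpow_natCast, ← _root_.zpow_mul, mul_comm, _root_.zpow_mul, zpow_natCast, hx,
        _root_.one_zpow]; rfl)⟩
    refine IsPGroup.to_sup_of_normal_right' (key a ha3) (key b hb3) (zpowers_le.2 ?_)
    refine centralizer_le_normalizer _ (mem_centralizer_iff.2 fun y hy => ?_)
    obtain ⟨j, rfl⟩ := mem_zpowers_iff.1 hy
    exact ((hcomm.symm).zpow_left j).eq
  obtain ⟨P, hP⟩ := hzp.exists_le_sylow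
  have hgp : IsPGroup 3 (zpowers g) := IsPGroup.of_card (n := 2) (by rw [Nat.card_zpowers, hg9])
  obtain ⟨Q, hQ⟩ := hgp.exists_le_sylow
  have hQcard : Nat.card Q = 3 ^ 2 := by rw [Sylow.card_eq_multiplicity, hfac]
  have hQeq : zpowers g = (Q : Subgroup (GL (Fin 5) (ZMod 2))) :=
    eq_of_le_of_card_ge hQ (le_of_eq (by rw [Nat.card_zpowers, hg9]; exact hQcard))
  haveI : IsCyclic (Q : Subgroup (GL (Fin 5) (ZMod 2))) := hQeq ▸ isCyclic_zpowers g
  haveI : IsCyclic (P : Subgroup (GL (Fin 5) (ZMod 2))) :=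
    isCyclic_of_surjective (Q.equiv P).toMonoidHom (Q.equiv P).surjective
  haveI := Fintype.ofFinite (P : Subgroup (GL (Fin 5) (ZMod 2)))
  have h := IsCyclic.card_pow_eq_one_le (α := (P : Subgroup (GL (Fin 5) (ZMod 2)))) (show 0 < 3 by norm_num)
  have haP : a ∈ (P : Subgroup (GL (Fin 5) (ZMod 2))) := hP (mem_sup_left (mem_zpowers a))
  have hbP : b ∈ (P : Subgroup (GL (Fin 5) (ZMod 2))) := hP (mem_sup_right (mem_zpowers b))
  have hsub : ({1, ⟨a, haP⟩, ⟨a * a, mul_mem haP haP⟩, ⟨b, hbP⟩} : Finset (P : Subgroup (GL (Fin 5) (ZMod 2)))) ⊆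
      Finset.univ.filter fun x => x ^ 3 = 1 := by
    intro x hx
    simp only [Finset.mem_insert, Finset.mem_singleton] at hx
    refine Finset.mem_filter.2 ⟨Finset.mem_univ _, Subtype.ext ?_⟩
    rw [SubmonoidClass.coe_pow, OneMemClass.coe_one]
    rcases hx with rfl | rfl | rfl | rfl
    · exact one_pow 3
    · exact ha3
    · show (a * a) ^ 3 = 1
      rw [(Commute.refl a).mul_pow, ha3, one_mul]
    · exact hb3
  have h4 := Finset.card_le_card hsub
  rw [Finset.card_insert_of_notMem, Finset.card_insert_of_notMem, Finset.card_insert_of_notMem,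
    Finset.card_singleton] at h4
  · omega
  all_goals simp only [Finset.mem_insert, Finset.mem_singleton, Subtype.ext_iff, Units.ext_iff, Units.val_mul,
    OneMemClass.coe_one, Units.val_one, not_or]
  · exact hBA2.symm
  · refine ⟨?_, hBA.symm⟩
    intro e
    exact hA2 ((congrArg (A₁ * ·) e).trans a1)
  · exact ⟨fun e => hA e.symm, fun e => hA2 e.symm, fun e => hB e.symm⟩

/-- The order of a section divides the order of the group. -/
theorem card_section_dvd {H : Subgroup (GL (Fin 5) (ZMod 2))} (K : Subgroup H) [K.Normal] {X : Type u} [Group X]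
    (e : H ⧸ K ≃* X) : Nat.card X ∣ 2 ^ 10 * 9765 := by
  rw [← card_GL5, ← Nat.card_congr e.toEquiv]
  exact (card_quotient_dvd_card K).trans (card_subgroup_dvd_card H)

theorem pow_bound {k : ℕ} (h : 2 ^ k ∣ 2 ^ 10 * 9765) : k ≤ 10 :=
  (Nat.pow_dvd_pow_iff_le_right (by norm_num : 1 < 2)).1
    ((Nat.Coprime.pow_left k (by norm_num : Nat.Coprime 2 9765)).dvd_of_dvd_mul_right h)

/-- The projective special linear case. -/
theorem psl_case {H : Subgroup (GL (Fin 5) (ZMod 2))} (K : Subgroup H) [K.Normal] {n : ℕ} (hn : 2 ≤ n)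
    {F : Type} [Field F] [Fintype F] (hF : Fintype.card F = 2 ^ n)
    (e : H ⧸ K ≃* ProjectiveSpecialLinearGroup (Fin 2) F) : n = 2 := by
  classical
  have hd := card_section_dvd K e
  have hgcd : Nat.gcd 2 (2 ^ n - 1) = 1 := by
    refine Nat.coprime_two_left.2 ?_
    obtain ⟨j, rfl⟩ := Nat.exists_eq_add_of_le (show 1 ≤ n by omega)
    refine ⟨2 ^ j - 1, ?_⟩
    rw [pow_add, pow_one]
    have := Nat.one_le_two_pow (n := j)
    omega
  have hc := Cfsg.Lib.Classical.SmallPSL.card_psl hF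
  rw [hgcd, one_mul] at hc
  rw [hc] at hd
  have hn10 : n ≤ 10 := pow_bound ((dvd_mul_right _ _).trans hd)
  have h23 : n = 2 ∨ n = 3 := by interval_cases n <;> norm_num at hd <;> norm_num
  rcases h23 with rfl | rfl
  · rfl
  exfalso
  -- the case of order 504
  have hF8 : Fintype.card F = 8 := by rw [hF]; norm_num
  have h7 : ∀ x : F, x ≠ 0 → x ^ 7 = 1 := fun x hx => by
    have := FiniteField.pow_card_sub_one_eq_one x hx; rwa [hF8] at this
  haveI : CharP F 2 := by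
    refine CharTwo.of_one_ne_zero_of_two_eq_zero one_ne_zero ?_
    have h0 : ((Fintype.card F : ℕ) : F) = 0 := FiniteField.cast_card_eq_zero F
    rw [hF, Nat.cast_pow, Nat.cast_ofNat] at h0
    exact (pow_eq_zero_iff (by norm_num : (3 : ℕ) ≠ 0)).mp h0
  obtain ⟨x, hx0, hx1⟩ : ∃ x : F, x ≠ 0 ∧ x ≠ 1 := by
    by_contra hall
    push Not at hall
    have : (Finset.univ : Finset F) ⊆ {0, 1} := fun z _ => by
      by_cases hz : z = 0
      · simp [hz]
      · simp [hall z hz]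
    have := (Finset.card_le_card this).trans Finset.card_le_two
    rw [Finset.card_univ, hF8] at this
    omega
  obtain ⟨t, ht⟩ : ∃ t : F, t ^ 3 + t + 1 = 0 := by
    have hfac : (x - 1) * ((x ^ 3 + x + 1) * (x ^ 3 + x ^ 2 + 1)) = x ^ 7 - 1 := by
      have h2 : (2 : F) = 0 := CharTwo.two_eq_zero
      grobner
    rw [h7 x hx0, sub_self, mul_eq_zero, mul_eq_zero, sub_eq_zero] at hfac
    rcases hfac with h | h | h
    · exact absurd h hx1
    · exact ⟨x, h⟩
    · refine ⟨x⁻¹, ?_⟩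
      field_simp
      linear_combination h
  have h2 : (2 : F) = 0 := CharTwo.two_eq_zero
  let M : SpecialLinearGroup (Fin 2) F := ⟨!![0, 1; 1, t], by
    rw [Matrix.det_fin_two_of]; linear_combination (-1 : F) * h2⟩
  have hM3 : (M ^ 3 : SpecialLinearGroup (Fin 2) F).1 =
      !![t, 1 + t ^ 2; 1 + t ^ 2, 2 * t + t ^ 3] := by
    rw [pow_succ, pow_two]
    show !![0, 1; 1, t] * !![0, 1; 1, t] * !![0, 1; 1, t] = _
    rw [Matrix.mul_fin_two, Matrix.mul_fin_two]
    ext i j; fin_cases i <;> fin_cases j <;> simp <;> ring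
  have hM9 : M ^ 9 = 1 := by
    rw [show 9 = 3 + 3 + 3 from rfl, pow_add, pow_add]
    refine Subtype.ext ?_
    show (M ^ 3 : SpecialLinearGroup (Fin 2) F).1 * (M ^ 3 : SpecialLinearGroup (Fin 2) F).1 *
      (M ^ 3 : SpecialLinearGroup (Fin 2) F).1 = 1
    rw [hM3, Matrix.mul_fin_two, Matrix.mul_fin_two, Matrix.one_fin_two]
    ext i j
    fin_cases i <;> fin_cases j <;> simp
    all_goals grobner
  let π := QuotientGroup.mk' (Subgroup.center (SpecialLinearGroup (Fin 2) F))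
  obtain ⟨z, hz⟩ := QuotientGroup.mk'_surjective K (e.symm (π M))
  obtain ⟨k, hk⟩ : ∃ k, ¬ 3 ∣ k ∧ (z : GL (Fin 5) (ZMod 2)) ^ (9 * k) = 1 := by
    refine ⟨1024 * 1085, by norm_num, ?_⟩
    rw [show 9 * (1024 * 1085) = 2 ^ 10 * 9765 by norm_num, ← card_GL5, pow_card_eq_one']
  have hzk : ((z : GL (Fin 5) (ZMod 2)) ^ k) ^ 3 = 1 := pow_three_eq_one (by rw [← pow_mul, mul_comm, hk.2])
  have hπ : π M ^ (k * 3) = 1 := by
    have hz' : z ^ (k * 3) = 1 := Subtype.ext (by rw [SubmonoidClass.coe_pow, pow_mul, hzk]; rfl)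
    have h := congrArg (fun y => e (QuotientGroup.mk' K y)) hz'
    simp only [map_pow, map_one, hz, e.apply_symm_apply] at h
    exact h
  have hπ9 : π M ^ 9 = 1 := by rw [← map_pow, hM9, map_one]
  have hπ3 : π M ^ 3 = 1 := by
    have h := pow_gcd_eq_one.2 ⟨hπ, hπ9⟩
    rwa [show Nat.gcd (k * 3) 9 = 3 from by
      rw [show 9 = 3 * 3 from rfl, Nat.gcd_mul_right, Nat.Coprime.gcd_eq_one (Nat.coprime_comm.1
        ((Nat.Prime.coprime_iff_not_dvd Nat.prime_three).2 hk.1))]] at h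
  rw [← map_pow] at hπ3
  obtain ⟨r, -, hr⟩ := Matrix.SpecialLinearGroup.mem_center_iff.1
    ((QuotientGroup.eq_one_iff (N := Subgroup.center (SpecialLinearGroup (Fin 2) F)) (M ^ 3)).1 hπ3)
  have hr' : Matrix.scalar (Fin 2) r = (M ^ 3 : SpecialLinearGroup (Fin 2) F).1 := hr
  rw [hM3] at hr'
  have h01 := congrFun (congrFun hr' 0) 1
  simp [Matrix.scalar_apply] at h01
  have h10 : (1 + t) ^ 2 = 0 := by linear_combination -h01 + t * h2
  have ht1 : t = 1 := by
    have := (pow_eq_zero_iff two_ne_zero).1 h10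
    linear_combination this - h2
  rw [ht1] at ht
  exact one_ne_zero (α := F) (by linear_combination ht - h2)

/-- The Suzuki case does not occur. -/
theorem sz_case {H : Subgroup (GL (Fin 5) (ZMod 2))} (K : Subgroup H) [K.Normal] {m : ℕ} (hm : 1 ≤ m)
    {F : Type} [Field F] [Fintype F] (hF : Fintype.card F = 2 ^ (2 * m + 1))
    (e : H ⧸ K ≃* ↥(Cfsg.Lie.Sz F (2 ^ (m + 1)))) : False := by
  have hd := card_section_dvd K e
  rw [(Cfsg.Lib.Suz.lie_structure (⟨hm, hF⟩ : Cfsg.Lib.Suz.Par F m)).1] at hd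
  have h1 : (2 * m + 1) * 2 ≤ 10 := pow_bound (by
    rw [pow_mul]
    exact ((dvd_mul_right _ _).trans (dvd_mul_right _ _)).trans hd)
  have hm2 : m ≤ 2 := by omega
  interval_cases m <;> norm_num at hd

/-- The unitary case does not occur. -/
theorem psu_case {H : Subgroup (GL (Fin 5) (ZMod 2))} (K : Subgroup H) [K.Normal] {n : ℕ} (hn : 2 ≤ n)
    {F : Type} [Field F] [Fintype F] (hF : Fintype.card F = 4 ^ n) (e : H ⧸ K ≃* Cfsg.PSU 3 F (2 ^ n)) : False := by
  classical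
  have hF2 : Fintype.card F = (2 ^ n) ^ 2 := by rw [hF, show 4 = 2 ^ 2 from rfl, ← pow_mul, ← pow_mul, mul_comm]
  have hd := card_section_dvd K e
  haveI : Fact (Nat.Prime 2) := ⟨Nat.prime_two⟩
  obtain ⟨S⟩ : Nonempty (Sylow 2 (Cfsg.PSU 3 F (2 ^ n))) := inferInstance
  obtain ⟨hS, -, -⟩ := Cfsg.Lib.SuzukiTwo.psu_three hn hF2 S
  have h3 : 3 * n ≤ 10 := pow_bound (by
    rw [mul_comm 3 n, pow_mul, ← hS]
    exact (card_subgroup_dvd_card _).trans hd)
  generalize hq : 2 ^ n = q at *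
  -- the diagonal subgroup
  let T : Subgroup Fˣ := (powMonoidHom (q + 1)).ker
  have hTcard : Nat.card T = q + 1 := by
    rw [IsCyclic.card_powMonoidHom_ker, Nat.card_units, Nat.card_eq_fintype_card, hF2]
    exact Nat.gcd_eq_right ⟨q - 1, by rw [← Nat.sq_sub_sq, one_pow]⟩
  have hTmem : ∀ a : T, ((a : Fˣ) : F) ^ (q + 1) = 1 := fun a => by
    have h : (a : Fˣ) ^ (q + 1) = 1 := a.2
    rw [← Units.val_pow_eq_pow_val, h, Units.val_one]
  let d : T × T → Fin 3 → F := fun x => ![((x.1 : Fˣ) : F), ((x.2 : Fˣ) : F), (((x.1 * x.2 : T) : Fˣ)⁻¹ : Fˣ)]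
  have hd1 : ∀ x i, d x i ^ (q + 1) = 1 := by
    intro x i
    fin_cases i
    · exact hTmem x.1
    · exact hTmem x.2
    · have := hTmem (x.1 * x.2)⁻¹
      simpa [d] using this
  have hdet : ∀ x, (Matrix.diagonal (d x)).det = 1 := fun x => by
    rw [Matrix.det_diagonal, Fin.prod_univ_three]
    simp [d]
    field_simp
  let D : T × T →* Cfsg.SU 3 F q :=
    { toFun := fun x => ⟨⟨Matrix.diagonal (d x), hdet x⟩, fun u v => by
        show ∑ i, (Matrix.diagonal (d x) *ᵥ u) i * ((Matrix.diagonal (d x) *ᵥ v) i) ^ q = ∑ i, u i * v i ^ q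
        refine Finset.sum_congr rfl fun i _ => ?_
        rw [Matrix.mulVec_diagonal, Matrix.mulVec_diagonal, mul_pow, mul_mul_mul_comm, ← pow_succ', hd1, one_mul]⟩
      map_one' := Subtype.ext (Subtype.ext (by
        show Matrix.diagonal (d 1) = 1
        rw [← Matrix.diagonal_one]
        congr 1; funext i; fin_cases i <;> simp [d]))
      map_mul' := fun x y => Subtype.ext (Subtype.ext (by
        show Matrix.diagonal (d (x * y)) = Matrix.diagonal (d x) * Matrix.diagonal (d y)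
        rw [Matrix.diagonal_mul_diagonal]
        congr 1; funext i; fin_cases i <;> simp [d] <;> ring)) }
  have hD : Function.Injective D := by
    intro x y hxy
    have h : Matrix.diagonal (d x) = Matrix.diagonal (d y) := congrArg (fun g : Cfsg.SU 3 F q => g.1.1) hxy
    have h0 := congrFun (Matrix.diagonal_injective h) 0
    have h1 := congrFun (Matrix.diagonal_injective h) 1
    exact Prod.ext (Subtype.ext (Units.ext h0)) (Subtype.ext (Units.ext h1))
  have hdvd : (q + 1) * (q + 1) ∣ 2 ^ 10 * 9765 * Nat.gcd 3 (q + 1) := by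
    have h1 := Subgroup.card_dvd_of_injective D hD
    rw [Nat.card_prod, hTcard] at h1
    refine h1.trans ?_
    rw [Subgroup.card_eq_card_quotient_mul_card_subgroup (Subgroup.center (Cfsg.SU 3 F q)),
      Cfsg.Lib.Classical.card_center_SU hF2 (show 2 ≤ 3 by norm_num)]
    exact Nat.mul_dvd_mul_right hd _
  have hn3 : n ≤ 3 := by omega
  interval_cases n <;> subst hq <;> norm_num at hdvd

end Cfsg.Lib.GLFiveTwo
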